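/- Finite extensions of a field of Laurent series: integral basis and differentials. -/
import Groth.Agent.Funfld2.Residue.Pullback
import Mathlib.RingTheory.Valuation.Extension

set_option autoImplicit false

universe u v

open scoped LaurentSeries WithZero
open WithZero (exp)

noncomputable section

namespace Groth.LocResTrace

section Series

variable {L : Type u} [Field L]

lemma v_le_exp_iff {h : L⸨X⸩} {N : ℤ} :
    Valued.v h ≤ exp (-N) ↔ ∀ i < N, h.coeff i = 0 :=
  LaurentSeries.valuation_le_iff_coeff_lt_eq_zero L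

lemma v_le_one_iff {h : L⸨X⸩} : Valued.v h ≤ (1 : ℤᵐ⁰) ↔ ∀ i < 0, h.coeff i = 0 := by
  rw [← WithZero.exp_zero, ← neg_zero, v_le_exp_iff]
  simp

lemma v_D_le_one {h : L⸨X⸩} (hh : Valued.v h ≤ (1 : ℤᵐ⁰)) : Valued.v (LocRes.D L h) ≤ (1 : ℤᵐ⁰) := by
  rw [v_le_one_iff] at hh ⊢
  intro i hi
  rw [LocRes.D_coeff]
  rcases eq_or_ne (i + 1) 0 with h0 | h0
  · rw [h0, zero_smul]
  · rw [hh _ (by omega), smul_zero]

lemma eq_zero_of_v_le {h : L⸨X⸩} (hh : ∀ N : ℕ, Valued.v h ≤ exp (-(N : ℤ))) : h = 0 := by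
  ext i
  exact v_le_exp_iff.1 (hh (i + 1).toNat) i (by omega)

lemma coeff_pow_uniformizer {P : L⸨X⸩} (hP : ∀ i < 1, P.coeff i = 0) (n : ℕ) :
    (∀ i < (n : ℤ), (P ^ n).coeff i = 0) ∧ (P ^ n).coeff n = P.coeff 1 ^ n := by
  induction n with
  | zero =>
    refine ⟨fun i hi => ?_, by simp⟩
    rw [pow_zero, HahnSeries.coeff_one, if_neg (by omega)]
  | succ n ih =>
    obtain ⟨h1, h2⟩ := ih
    have hm : ∀ m, (P ^ (n + 1)).coeff m =
        ∑ i ∈ Finset.Icc (1 : ℤ) (m - n), (P ^ n).coeff (m - i) * P.coeff i := fun m => by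
      rw [pow_succ, Groth.Funfld2.Residue.coeff_mul_eq_sum h1 hP]
    refine ⟨fun i hi => ?_, ?_⟩
    · rw [hm, Finset.Icc_eq_empty (by push_cast at hi; omega), Finset.sum_empty]
    · rw [hm, show ((n + 1 : ℕ) : ℤ) - n = 1 by push_cast; ring, Finset.Icc_self, Finset.sum_singleton,
        show ((n + 1 : ℕ) : ℤ) - 1 = n by push_cast; ring, h2, pow_succ]

/-- A combination of constants and distinct powers of a uniformiser has triangular coefficients. -/
lemma coeff_sum_C_mul_pow {P : L⸨X⸩} (hP : ∀ i < 1, P.coeff i = 0) {e : ℕ} (l : Fin e → L) (j : Fin e)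
    (hl : ∀ j' < j, l j' = 0) :
    (∑ j', HahnSeries.C (l j') * P ^ (j' : ℕ)).coeff (j : ℤ) = l j * P.coeff 1 ^ (j : ℕ) := by
  rw [HahnSeries.coeff_sum, Finset.sum_eq_single j]
  · rw [HahnSeries.C_mul_eq_smul, HahnSeries.coeff_smul, smul_eq_mul, (coeff_pow_uniformizer hP _).2]
  · intro j' _ hne
    rw [HahnSeries.C_mul_eq_smul, HahnSeries.coeff_smul, smul_eq_mul]
    rcases lt_or_gt_of_ne hne with h | h
    · rw [hl j' h, zero_mul]
    · rw [(coeff_pow_uniformizer hP _).1 _ (by exact_mod_cast h), mul_zero]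
  · simp

end Series

section Local

variable {K L : Type u} {F E : Type v} [Field K] [Field L] [Field F] [Field E]
  [Algebra K F] [Algebra F E] [Algebra K E] [IsScalarTower K F E]
  [Algebra K L] [Algebra L E] [IsScalarTower K L E] [FiniteDimensional K L]
  {v : Valuation F (WithZero (Multiplicative ℤ))} {w : Valuation E (WithZero (Multiplicative ℤ))}
  [v.HasExtension w] {φ : F →ₐ[K] K⸨X⸩} (hφ : LocRes.IsExpansionAt v φ) (hφs : Function.Surjective φ)
  {ψ : E →ₐ[L] L⸨X⸩} (hψ : LocRes.IsExpansionAt w ψ)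

include hφ hφs in
/-- Splitting off the constant term and a uniformiser. -/
lemma exists_split {t : F} (ht : φ t = HahnSeries.single 1 1) {f : F} (hf : v f ≤ 1) :
    ∃ (c : K) (h : F), v h ≤ 1 ∧ f = algebraMap K F c + t * h := by
  obtain ⟨h, hh⟩ := hφs (HahnSeries.single (-1) 1 * (φ f - HahnSeries.C ((φ f).coeff 0)))
  refine ⟨(φ f).coeff 0, h, ?_, φ.toRingHom.injective ?_⟩
  · rw [← hφ.1, hh, v_le_one_iff]
    intro i hi
    rw [HahnSeries.coeff_single_mul, one_mul, HahnSeries.coeff_sub, HahnSeries.C_apply, HahnSeries.coeff_single]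
    rcases eq_or_ne (i - -1) 0 with h0 | h0
    · simp [h0]
    · rw [(v_le_one_iff.1 ((hφ.1 f).trans_le hf)) _ (by omega), if_neg h0, sub_zero]
  · simp only [AlgHom.toRingHom_eq_coe, RingHom.coe_coe, map_add, map_mul, LocRes.map_algebraMap, ht, hh,
      Algebra.algebraMap_self, RingHom.id_apply, ← mul_assoc, HahnSeries.single_mul_single, add_neg_cancel,
      one_mul, HahnSeries.single_zero_one, add_sub_cancel]

include hφ hφs in
lemma exists_shift {t : F} (ht : φ t = HahnSeries.single 1 1) {f : F} (m : ℕ) (hf : v f ≤ exp (-(m : ℤ))) :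
    ∃ h : F, v h ≤ 1 ∧ f = t ^ m * h := by
  obtain ⟨h, hh⟩ := hφs (HahnSeries.single (-(m : ℤ)) 1 * φ f)
  refine ⟨h, ?_, φ.toRingHom.injective ?_⟩
  · rw [← hφ.1, hh, v_le_one_iff]
    intro i hi
    rw [HahnSeries.coeff_single_mul, one_mul]
    exact v_le_exp_iff.1 ((hφ.1 f).trans_le hf) _ (by omega)
  · simp only [AlgHom.toRingHom_eq_coe, RingHom.coe_coe, map_mul, map_pow, ht, hh, HahnSeries.single_pow,
      ← mul_assoc, HahnSeries.single_mul_single, one_pow, one_mul, nsmul_one, add_neg_cancel,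
      HahnSeries.single_zero_one]

include hψ in
lemma v_psi (z : E) : Valued.v (ψ z) = w z := hψ.1 z

lemma psi_algebraMap (c : K) :
    ψ (algebraMap F E (algebraMap K F c)) = HahnSeries.C (algebraMap K L c) := by
  rw [← IsScalarTower.algebraMap_apply, IsScalarTower.algebraMap_apply K L E, LocRes.map_algebraMap,
    Algebra.algebraMap_self, RingHom.id_apply]

include hψ in
lemma w_algebraMap_le {f : F} (hf : v f ≤ 1) : Valued.v (ψ (algebraMap F E f)) ≤ (1 : ℤᵐ⁰) := by
  rw [v_psi hψ]; exact (Valuation.HasExtension.val_map_le_one_iff v w f).2 hf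

include hφ hφs hψ in
/-- Integral basis: there is a basis `b` of `E/F` with `w z ≤ 1` iff all coordinates are integral, and `ψ` is onto. -/
theorem exists_integral_basis :
    Function.Surjective ψ ∧ ∃ (n : ℕ) (b : Module.Basis (Fin n) F E),
      ∀ z, w z ≤ 1 ↔ ∀ i, v (b.repr z i) ≤ 1 := by
  classical
  obtain ⟨t, ht⟩ := hφs (HahnSeries.single 1 1)
  have hvt : v t = exp (-1) := by
    rw [← hφ.1, ht, LaurentSeries.valuation_single_zpow]
  have ht0 : t ≠ 0 := fun h => by rw [h, map_zero] at hvt; exact WithZero.exp_ne_zero hvt.symm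
  have hιt0 : algebraMap F E t ≠ 0 := (map_ne_zero _).2 ht0
  have hwt : w (algebraMap F E t) < 1 := by
    rw [Valuation.HasExtension.val_map_lt_one_iff v w, hvt, ← WithZero.exp_zero, WithZero.exp_lt_exp]
    norm_num
  obtain ⟨e, he, hwte⟩ : ∃ e : ℕ, 0 < e ∧ w (algebraMap F E t) = exp (-(e : ℤ)) := by
    have h := WithZero.exp_log ((Valuation.ne_zero_iff w).2 hιt0)
    rw [← h, ← WithZero.exp_zero, WithZero.exp_lt_exp] at hwt
    refine ⟨(-(WithZero.log (w (algebraMap F E t)))).toNat, by omega, ?_⟩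
    rw [Int.toNat_of_nonneg (by omega), neg_neg, h]
  have hΨt : ∀ m : ℕ, Valued.v (ψ (algebraMap F E t) ^ m) = exp (-((e * m : ℕ) : ℤ)) := fun m => by
    rw [map_pow, v_psi hψ, hwte, ← WithZero.exp_nsmul]
    congr 1; push_cast; simp [mul_comm]
  obtain ⟨p, hp⟩ := hψ.2.2
  let bL := Module.finBasis K L
  let f' := Module.finrank K L
  let bb : Fin f' × Fin e → E := fun i => algebraMap L E (bL i.1) * p ^ (i.2 : ℕ)
  let P := ψ p
  have hP : ∀ i < 1, P.coeff i = 0 := v_le_exp_iff.1 ((v_psi hψ p).trans hp).le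
  have hγ : P.coeff 1 ≠ 0 := by
    intro h
    have h2 : Valued.v P ≤ exp (-(2 : ℤ)) := v_le_exp_iff.2 fun i hi => by
      rcases lt_or_eq_of_le (show i ≤ 1 by omega) with hl | rfl
      · exact hP i hl
      · exact h
    rw [v_psi hψ, hp, WithZero.exp_le_exp] at h2
    omega
  let comb : (Fin f' × Fin e → F) → E := fun g => ∑ i, algebraMap F E (g i) * bb i
  have hbb : ∀ i, Valued.v (ψ (bb i)) ≤ (1 : ℤᵐ⁰) := fun i => by
    rw [map_mul, map_mul, map_pow, map_pow]
    refine mul_le_one' ?_ (pow_le_one' ?_ _)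
    · rw [LocRes.map_algebraMap, v_le_one_iff]
      intro j hj
      rw [HahnSeries.C_apply, HahnSeries.coeff_single, if_neg (by omega)]
    · rw [v_psi hψ, hp, ← WithZero.exp_zero, WithZero.exp_le_exp]; norm_num
  have hcomb : ∀ g, (∀ i, v (g i) ≤ 1) → Valued.v (ψ (comb g)) ≤ (1 : ℤᵐ⁰) := fun g hg => by
    rw [map_sum]
    refine Valuation.map_sum_le _ fun i _ => ?_
    rw [map_mul, map_mul]
    exact mul_le_one' (w_algebraMap_le (v := v) hψ (hg i)) (hbb i)
  have hconst : ∀ c : Fin f' × Fin e → K, ψ (comb fun i => algebraMap K F (c i)) =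
      ∑ j, HahnSeries.C (∑ a, c (a, j) • bL a) * P ^ (j : ℕ) := fun c => by
    simp only [comb, map_sum, bb, map_mul, map_pow, psi_algebraMap, LocRes.map_algebraMap,
      Algebra.algebraMap_self, RingHom.id_apply, P]
    rw [Fintype.sum_prod_type, Finset.sum_comm]
    refine Finset.sum_congr rfl fun j _ => ?_
    rw [Finset.sum_mul]
    refine Finset.sum_congr rfl fun a _ => ?_
    rw [Algebra.smul_def, map_mul, mul_assoc]
  have hscale : ∀ (g : Fin f' × Fin e → F) (m : ℕ),
      comb (fun i => t ^ m * g i) = algebraMap F E t ^ m * comb g := fun g m => by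
    simp only [comb, Finset.mul_sum, map_mul, map_pow, mul_assoc]
  have hadd : ∀ g g', comb (g + g') = comb g + comb g' := fun g g' => by
    simp only [comb, Pi.add_apply, map_add, add_mul, Finset.sum_add_distrib]
  -- one step of the independence
  have hind : ∀ g, (∀ i, v (g i) ≤ 1) → Valued.v (ψ (comb g)) ≤ exp (-(e : ℤ)) → ∀ i, v (g i) < 1 := by
    intro g hg hle
    choose c h hh heq using fun i => exists_split hφ hφs ht (hg i)
    have hg' : g = (fun i => algebraMap K F (c i)) + fun i => t ^ 1 * h i := by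
      funext i; rw [Pi.add_apply, pow_one]; exact heq i
    have hc : Valued.v (ψ (comb fun i => algebraMap K F (c i))) ≤ exp (-(e : ℤ)) := by
      have h1 : comb (fun i => algebraMap K F (c i)) = comb g - algebraMap F E t ^ 1 * comb h := by
        rw [hg', hadd, hscale, add_sub_cancel_right]
      rw [h1, map_sub]
      refine Valuation.map_sub_le _ hle ?_
      rw [map_mul, map_mul, map_pow, hΨt, mul_one]
      exact mul_le_of_le_one_right' (hcomb h hh)
    have hl : ∀ (n : ℕ) (j : Fin e), (j : ℕ) < n → ∑ a, c (a, j) • bL a = 0 := by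
      intro n
      induction n with
      | zero => intro j hj; omega
      | succ n ih =>
        intro j hj
        have hj' : ∀ j' < j, ∑ a, c (a, j') • bL a = 0 := fun j' h => ih j' (by
          have := Fin.lt_def.1 h; omega)
        have h2 := coeff_sum_C_mul_pow hP (fun j => ∑ a, c (a, j) • bL a) j hj'
        rw [← hconst, v_le_exp_iff.1 hc _ (by exact_mod_cast j.isLt)] at h2
        exact (mul_eq_zero.1 h2.symm).resolve_right (pow_ne_zero _ hγ)
    intro i
    have hci : c i = 0 := by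
      have h2 := hl ((i.2 : ℕ) + 1) i.2 (Nat.lt_succ_self _)
      exact Fintype.linearIndependent_iff.1 bL.linearIndependent (fun a => c (a, i.2)) h2 i.1
    rw [heq i, hci, map_zero, zero_add, map_mul]
    exact mul_lt_one_of_lt_of_le (by rw [hvt, ← WithZero.exp_zero, WithZero.exp_lt_exp]; norm_num) (hh i)
  -- coordinates of an integral element are integral
  have hbound : ∀ g, Valued.v (ψ (comb g)) ≤ (1 : ℤᵐ⁰) → ∀ i, v (g i) ≤ 1 := by
    intro g hle i₀
    by_contra hlt
    obtain ⟨i₁, -, hmax⟩ := Finset.exists_max_image Finset.univ (fun i => v (g i)) ⟨i₀, Finset.mem_univ _⟩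
    have hgt : 1 < v (g i₁) := (not_le.1 hlt).trans_le (hmax i₀ (Finset.mem_univ _))
    obtain ⟨M, hM⟩ : ∃ M : ℤ, v (g i₁) = exp M := ⟨_, (WithZero.exp_log (ne_of_gt (zero_lt_one.trans hgt))).symm⟩
    rw [hM, ← WithZero.exp_zero, WithZero.exp_lt_exp] at hgt
    lift M to ℕ using hgt.le
    have hvm : ∀ i, v (t ^ M * g i) = exp (-(M : ℤ)) * v (g i) := fun i => by
      rw [map_mul, map_pow, hvt, ← WithZero.exp_nsmul]; simp
    have h1 := hind (fun i => t ^ M * g i) (fun i => by
      rw [hvm]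
      refine (mul_le_mul' le_rfl ((hmax i (Finset.mem_univ _)).trans hM.le)).trans ?_
      rw [← WithZero.exp_add, neg_add_cancel, WithZero.exp_zero]) (by
      rw [hscale, map_mul, map_mul, map_pow, hΨt]
      refine (mul_le_of_le_one_right' hle).trans ?_
      rw [WithZero.exp_le_exp, neg_le_neg_iff]
      exact_mod_cast Nat.le_mul_of_pos_right e (by exact_mod_cast hgt)) i₁
    rw [hvm, hM, ← WithZero.exp_add, neg_add_cancel, WithZero.exp_zero] at h1
    exact lt_irrefl _ h1
  have hzero : ∀ g, comb g = 0 → g = 0 := by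
    intro g hg
    funext i
    refine φ.toRingHom.injective (Eq.trans ?_ (map_zero _).symm)
    refine eq_zero_of_v_le fun N => ?_
    have hN : comb (fun i => t⁻¹ ^ N * g i) = 0 := by
      simp only [comb] at hg ⊢
      simp only [map_mul, mul_assoc, ← Finset.mul_sum, map_pow, hg, mul_zero]
    have h2 := hbound _ (by rw [hN, map_zero, map_zero]; exact zero_le) i
    rw [map_mul, map_pow, map_inv₀, hvt, ← WithZero.exp_neg, neg_neg, ← WithZero.exp_nsmul] at h2
    show Valued.v (φ (g i)) ≤ _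
    rw [hφ.1]
    calc v (g i) = exp (-(N : ℤ)) * (exp (N • (1 : ℤ)) * v (g i)) := by
          rw [← mul_assoc, ← WithZero.exp_add]; simp
      _ ≤ exp (-(N : ℤ)) := mul_le_of_le_one_right' h2
  -- approximation
  have happ : ∀ h : L⸨X⸩, Valued.v h ≤ (1 : ℤᵐ⁰) →
      ∃ c : Fin f' × Fin e → K, Valued.v (h - ψ (comb fun i => algebraMap K F (c i))) ≤ exp (-(e : ℤ)) := by
    intro h hh
    suffices H : ∀ n ≤ e, ∃ c : Fin f' × Fin e → K,
        ∀ i < (n : ℤ), (h - ψ (comb fun i => algebraMap K F (c i))).coeff i = 0 from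
      (H e le_rfl).imp fun c hc => v_le_exp_iff.2 hc
    intro n hn
    induction n with
    | zero =>
      refine ⟨0, fun i hi => ?_⟩
      rw [show (fun i => algebraMap K F ((0 : Fin f' × Fin e → K) i)) = 0 from funext fun _ => map_zero _]
      simpa [comb] using v_le_one_iff.1 hh i (by exact_mod_cast hi)
    | succ n ih =>
      obtain ⟨c, hc⟩ := ih (by omega)
      let j : Fin e := ⟨n, by omega⟩
      let r := (h - ψ (comb fun i => algebraMap K F (c i))).coeff (n : ℤ) / P.coeff 1 ^ n
      let dd : Fin f' × Fin e → K := fun i => if i.2 = j then bL.repr r i.1 else 0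
      refine ⟨c + dd, fun i hi => ?_⟩
      have hd : (fun i => algebraMap K F ((c + dd) i)) =
          (fun i => algebraMap K F (c i)) + fun i => algebraMap K F (dd i) :=
        funext fun i => map_add _ _ _
      have hr : ψ (comb fun i => algebraMap K F (dd i)) =
          HahnSeries.C r * P ^ n := by
        rw [hconst, Finset.sum_eq_single j]
        · simp only [dd, if_pos, j]
          exact congrArg (fun z => HahnSeries.C z * P ^ n) (bL.sum_repr r)
        · intro j' _ hne; simp [dd, hne]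
        · simp
      rw [hd, hadd, map_add, hr, ← sub_sub, HahnSeries.coeff_sub, HahnSeries.C_mul_eq_smul,
        HahnSeries.coeff_smul, smul_eq_mul]
      rcases lt_or_eq_of_le (show i ≤ (n : ℤ) by push_cast at hi; omega) with hl | rfl
      · rw [hc i hl, (coeff_pow_uniformizer hP n).1 i hl, mul_zero, sub_zero]
      · rw [(coeff_pow_uniformizer hP n).2, div_mul_cancel₀ _ (pow_ne_zero _ hγ), sub_self]
  have hsurjInt : ∀ h : L⸨X⸩, Valued.v h ≤ (1 : ℤᵐ⁰) → ∃ g, ψ (comb g) = h := by
    intro h hh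
    let T := ψ (algebraMap F E t)
    have hT0 : T ≠ 0 := (map_ne_zero _).2 hιt0
    have hstep : ∀ x : {x : L⸨X⸩ // Valued.v x ≤ (1 : ℤᵐ⁰)}, ∃ (c : Fin f' × Fin e → K)
        (y : {x : L⸨X⸩ // Valued.v x ≤ (1 : ℤᵐ⁰)}),
        x.1 = ψ (comb fun i => algebraMap K F (c i)) + T * y.1 := fun x => by
      obtain ⟨c, hc⟩ := happ x.1 x.2
      refine ⟨c, ⟨(x.1 - ψ (comb fun i => algebraMap K F (c i))) / T, ?_⟩, ?_⟩
      · rw [map_div₀]
        have h1 := hΨt 1
        rw [pow_one, mul_one] at h1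
        rw [h1, div_le_one₀ WithZero.exp_pos]
        exact hc
      · rw [mul_div_cancel₀ _ hT0, add_sub_cancel]
    choose c y hy using hstep
    let xs : ℕ → {x : L⸨X⸩ // Valued.v x ≤ (1 : ℤᵐ⁰)} := fun m => Nat.rec ⟨h, hh⟩ (fun _ x => y x) m
    choose g hg using fun i => hφs
      ((PowerSeries.mk fun m => c (xs m) i : PowerSeries K) : K⸨X⸩)
    refine ⟨g, sub_eq_zero.1 (eq_zero_of_v_le fun N => ?_)⟩
    -- partial sums
    have hpart : ∀ m : ℕ, ∃ part : Fin f' × Fin e → K⸨X⸩, ∃ gm : Fin f' × Fin e → F,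
        (∀ i, φ (gm i) = part i) ∧ (∀ i, ∀ l : ℤ, l < m → (part i).coeff l = (φ (g i)).coeff l) ∧
        (∀ i, ∀ l : ℤ, (m : ℤ) ≤ l → (part i).coeff l = 0) ∧
        h = ψ (comb gm) + T ^ m * (xs m).1 := by
      intro m
      induction m with
      | zero =>
        refine ⟨0, 0, by simp, fun i l hl => ?_, by simp, by simp [comb, xs]⟩
        rw [hg, PowerSeries.coeff_coe, if_pos (by exact_mod_cast hl)]
        rfl
      | succ m ih =>
        obtain ⟨part, gm, h1, h2, h3, h4⟩ := ih
        refine ⟨fun i => part i + HahnSeries.single (m : ℤ) (c (xs m) i),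
          gm + fun i => t ^ m * algebraMap K F (c (xs m) i), fun i => ?_, fun i l hl => ?_,
          fun i l hl => ?_, ?_⟩
        · rw [Pi.add_apply, map_add, map_mul, map_pow, ht, h1, LocRes.map_algebraMap, HahnSeries.single_pow,
            HahnSeries.C_apply, HahnSeries.single_mul_single]
          simp
        · rw [HahnSeries.coeff_add, HahnSeries.coeff_single]
          rcases lt_or_eq_of_le (show l ≤ (m : ℤ) by push_cast at hl; omega) with h' | rfl
          · rw [h2 i l h', if_neg (by omega), add_zero]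
          · rw [h3 i _ le_rfl, if_pos rfl, zero_add, hg, PowerSeries.coeff_coe,
              if_neg (not_lt.2 (Int.natCast_nonneg m)), Int.natAbs_natCast, PowerSeries.coeff_mk]
        · rw [HahnSeries.coeff_add, h3 i l (by push_cast at hl; omega), HahnSeries.coeff_single,
            if_neg (by push_cast at hl; omega), add_zero]
        · rw [hadd, hscale, map_add, map_mul, map_pow, add_assoc, pow_succ, mul_assoc, ← mul_add,
            show (xs (m + 1)).1 = (y (xs m)).1 from rfl, ← hy (xs m)]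
          exact h4
    obtain ⟨part, gm, h1, h2, h3, h4⟩ := hpart N
    have hdiff : ∀ i, v (g i - gm i) ≤ exp (-(N : ℤ)) := fun i => by
      rw [← hφ.1, map_sub, v_le_exp_iff]
      intro l hl
      rw [HahnSeries.coeff_sub, h1, h2 i l hl, sub_self]
    choose d hd hdeq using fun i => exists_shift hφ hφs ht N (hdiff i)
    have e1 : ψ (comb g) - h = T ^ N * (ψ (comb d) - (xs N).1) := by
      have : g = gm + fun i => t ^ N * d i := funext fun i => by rw [Pi.add_apply, ← hdeq i]; ring
      conv_lhs => rw [this, hadd, hscale, map_add, map_mul, map_pow, h4]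
      ring
    rw [e1, map_mul, hΨt]
    refine (mul_le_of_le_one_right' (Valuation.map_sub_le _ (hcomb d hd) (xs N).2)).trans ?_
    rw [WithZero.exp_le_exp, neg_le_neg_iff]
    exact_mod_cast Nat.le_mul_of_pos_left N he
  have hsurj : ∀ h : L⸨X⸩, ∃ g, ψ (comb g) = h := by
    intro h
    have hT0 : ψ (algebraMap F E t) ≠ 0 := (map_ne_zero _).2 hιt0
    obtain ⟨N, hN⟩ : ∃ N : ℕ, Valued.v (ψ (algebraMap F E t) ^ N * h) ≤ (1 : ℤᵐ⁰) := by
      refine ⟨(WithZero.log (Valued.v h)).toNat, ?_⟩
      rw [map_mul, hΨt]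
      rcases eq_or_ne (Valued.v h) 0 with h0 | h0
      · rw [h0, mul_zero]; exact zero_le
      · rw [← WithZero.exp_log h0, ← WithZero.exp_add, ← WithZero.exp_zero, WithZero.exp_le_exp,
          WithZero.log_exp]
        have := Nat.le_mul_of_pos_left (WithZero.log (Valued.v h)).toNat he
        push_cast
        nlinarith [Int.self_le_toNat (WithZero.log (Valued.v h)), this]
    obtain ⟨g, hg⟩ := hsurjInt _ hN
    refine ⟨fun i => t⁻¹ ^ N * g i, ?_⟩
    have : algebraMap F E t ^ N * comb (fun i => t⁻¹ ^ N * g i) = comb g := by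
      rw [← hscale]
      congr 1; funext i
      rw [← mul_assoc, ← mul_pow, mul_inv_cancel₀ ht0, one_pow, one_mul]
    refine mul_left_cancel₀ (pow_ne_zero N hT0) ?_
    rw [← map_pow, ← map_mul, this, hg, map_pow]
  have hli : LinearIndependent F bb := Fintype.linearIndependent_iff.2 fun g hg i =>
    congrFun (hzero g (by simpa [comb, Algebra.smul_def] using hg)) i
  have hsp : ⊤ ≤ Submodule.span F (Set.range bb) := fun z _ => by
    obtain ⟨g, hg⟩ := hsurj (ψ z)
    rw [← ψ.toRingHom.injective hg]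
    refine sum_mem fun i _ => ?_
    rw [← Algebra.smul_def]
    exact Submodule.smul_mem _ _ (Submodule.subset_span ⟨i, rfl⟩)
  refine ⟨fun h => (hsurj h).elim fun g hg => ⟨comb g, hg⟩, f' * e,
    (Module.Basis.mk hli hsp).reindex finProdFinEquiv, fun z => ?_⟩
  set B := Module.Basis.mk hli hsp
  have hz : comb (fun i => B.repr z i) = z := by
    conv_rhs => rw [← B.sum_repr z]
    simp [comb, B, Algebra.smul_def]
  rw [← v_psi hψ z]
  simp only [Module.Basis.repr_reindex_apply]
  refine ⟨fun h i => hbound _ (by rw [hz]; exact h) _, fun h => ?_⟩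
  rw [← hz]
  exact hcomb _ fun i => by simpa using h (finProdFinEquiv i)

include hφ hφs hψ in
/-- The chain rule for the derivative along the extension. -/
theorem D_psi_algebraMap {t : F} (ht : φ t = HahnSeries.single 1 1) {x c : F}
    (hc : φ c = LocRes.D K (φ x)) :
    LocRes.D L (ψ (algebraMap F E x)) = ψ (algebraMap F E c) * LocRes.D L (ψ (algebraMap F E t)) := by
  let s : K⸨X⸩ → F := Function.surjInv hφs
  have hs : ∀ h, φ (s h) = h := Function.surjInv_eq hφs
  have hsφ : ∀ f, s (φ f) = f := fun f => φ.toRingHom.injective (hs _)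
  let Ψ : F →+* L⸨X⸩ := (ψ : E →+* L⸨X⸩).comp (algebraMap F E)
  let T := Ψ t
  let δ : F → L⸨X⸩ := fun f => LocRes.D L (Ψ f) - Ψ (s (LocRes.D K (φ f))) * LocRes.D L T
  have hsadd : ∀ a b, s (a + b) = s a + s b := fun a b =>
    φ.toRingHom.injective (by simp [hs])
  have hsmul : ∀ (f : F) (a : K⸨X⸩), s (φ f * a) = f * s a := fun f a =>
    φ.toRingHom.injective (by simp [hs])
  have hδadd : ∀ a b, δ (a + b) = δ a + δ b := fun a b => by
    simp only [δ, map_add, hsadd, add_mul]; ring
  have hδmul : ∀ a b, δ (a * b) = Ψ a * δ b + Ψ b * δ a := fun a b => by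
    simp only [δ, map_mul, Derivation.leibniz, smul_eq_mul, hsadd, hsmul, map_add]
    ring
  have hδC : ∀ a : K, δ (algebraMap K F a) = 0 := fun a => by
    have h1 : Ψ (algebraMap K F a) = HahnSeries.C (algebraMap K L a) := psi_algebraMap (ψ := ψ) a
    have hz : s 0 = 0 := φ.toRingHom.injective (by simp [hs])
    have h2 : LocRes.D K (HahnSeries.C a) = 0 := LocRes.derivative_C K a
    have h3 : LocRes.D L (HahnSeries.C (algebraMap K L a)) = 0 := LocRes.derivative_C L _
    simp only [δ, h1, h3, LocRes.map_algebraMap, Algebra.algebraMap_self, RingHom.id_apply, h2, hz,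
      map_zero, zero_mul, sub_zero]
  have hDt : LocRes.D K (φ t) = 1 := by
    ext i
    rw [ht, LocRes.D_coeff, HahnSeries.coeff_single, HahnSeries.coeff_one]
    rcases eq_or_ne i 0 with rfl | hi
    · simp
    · rw [if_neg (by omega), if_neg hi, smul_zero]
  have hs1 : s 1 = 1 := φ.toRingHom.injective (by simp [hs])
  have hδt : δ t = 0 := by
    show LocRes.D L (Ψ t) - Ψ (s (LocRes.D K (φ t))) * LocRes.D L T = 0
    rw [hDt, hs1, map_one, one_mul, sub_self]
  have hint : ∀ f, v f ≤ 1 → Valued.v (δ f) ≤ (1 : ℤᵐ⁰) := fun f hf => by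
    refine Valuation.map_sub_le _ (v_D_le_one (w_algebraMap_le (v := v) hψ hf)) ?_
    rw [map_mul]
    refine mul_le_one' (w_algebraMap_le (v := v) hψ ?_) (v_D_le_one (w_algebraMap_le (v := v) hψ ?_))
    · rw [← hφ.1, hs]; exact v_D_le_one ((hφ.1 f).trans_le hf)
    · rw [← hφ.1, ht, LaurentSeries.valuation_single_zpow, ← WithZero.exp_zero, WithZero.exp_le_exp]
      norm_num
  have hvt : v t < 1 := by
    rw [← hφ.1, ht, LaurentSeries.valuation_single_zpow, ← WithZero.exp_zero, WithZero.exp_lt_exp]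
    norm_num
  have hT : Valued.v T ≤ exp (-1) := by
    have h1 : w (algebraMap F E t) < 1 := (Valuation.HasExtension.val_map_lt_one_iff v w t).2 hvt
    show Valued.v (ψ (algebraMap F E t)) ≤ _
    rw [v_psi hψ]
    rcases eq_or_ne (w (algebraMap F E t)) 0 with h0 | h0
    · rw [h0]; exact zero_le
    rw [← WithZero.exp_log h0, WithZero.exp_le_exp]
    rw [← WithZero.exp_log h0, ← WithZero.exp_zero, WithZero.exp_lt_exp] at h1
    omega
  have hδint : ∀ f, v f ≤ 1 → δ f = 0 := by
    suffices H : ∀ (N : ℕ) (f : F), v f ≤ 1 → Valued.v (δ f) ≤ exp (-(N : ℤ)) from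
      fun f hf => eq_zero_of_v_le fun N => H N f hf
    intro N
    induction N with
    | zero => intro f hf; simpa using hint f hf
    | succ N ih =>
      intro f hf
      obtain ⟨a, h, hh, rfl⟩ := exists_split hφ hφs ht hf
      rw [hδadd, hδC, hδmul, hδt, mul_zero, add_zero, zero_add, map_mul]
      refine (mul_le_mul' hT (ih h hh)).trans ?_
      rw [← WithZero.exp_add, WithZero.exp_le_exp]
      push_cast; omega
  obtain ⟨N, hN⟩ : ∃ N : ℕ, v (t ^ N * x) ≤ 1 := by
    refine ⟨(WithZero.log (v x)).toNat, ?_⟩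
    rw [map_mul, map_pow, ← hφ.1 t, ht, LaurentSeries.valuation_single_zpow, ← WithZero.exp_nsmul]
    rcases eq_or_ne (v x) 0 with h0 | h0
    · rw [h0, mul_zero]; exact zero_le
    · rw [← WithZero.exp_log h0, ← WithZero.exp_add, ← WithZero.exp_zero, WithZero.exp_le_exp,
        WithZero.log_exp]
      simp
  have htN : δ (t ^ N) = 0 := by
    refine hδint _ ?_
    rw [map_pow]; exact pow_le_one' hvt.le N
  have h0 := hδint _ hN
  rw [hδmul, htN, mul_zero, add_zero] at h0
  have hne : Ψ (t ^ N) ≠ 0 := (map_ne_zero _).2 (pow_ne_zero _ fun h => by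
    rw [h, map_zero] at ht
    exact one_ne_zero (α := K) (by simpa using congrArg (fun z => HahnSeries.coeff z 1) ht.symm))
  have hx := (mul_eq_zero.1 h0).resolve_left hne
  have hcs : s (LocRes.D K (φ x)) = c := by rw [← hc, hsφ]
  exact sub_eq_zero.1 (show LocRes.D L (Ψ x) - Ψ c * LocRes.D L T = 0 from hcs ▸ hx)

end Local

end Groth.LocResTrace
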