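/- The trace formula for residues over a complete discretely valued field. -/
import Groth.Agent.LocResTrace.Basis

set_option autoImplicit false

universe u v

open scoped LaurentSeries WithZero
open WithZero (exp)
open Groth.Funfld2.Residue

noncomputable section

namespace Groth.LocResTrace

variable {K L : Type u} {F E : Type v} [Field K] [Field L] [Field F] [Field E]
  [Algebra K F] [Algebra F E] [Algebra K E] [IsScalarTower K F E]
  [Algebra K L] [Algebra L E] [IsScalarTower K L E] [FiniteDimensional K L]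
  {v : Valuation F (WithZero (Multiplicative ℤ))} {w : Valuation E (WithZero (Multiplicative ℤ))}
  [v.HasExtension w] {φ : F →ₐ[K] K⸨X⸩} (hφ : LocRes.IsExpansionAt v φ) (hφs : Function.Surjective φ)
  {ψ : E →ₐ[L] L⸨X⸩} (hψ : LocRes.IsExpansionAt w ψ)

include hφ hφs hψ

/-- `Tr Res_w (y du) = Res_v (tr y du)` for integral `u`. -/
theorem trace_res_integral (y : E) {u : F} (hu : v u ≤ 1) :
    Algebra.trace K L (LocRes.resExp ψ y (algebraMap F E u)) =
      LocRes.resExp φ (Algebra.trace F E y) u := by
  classical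
  obtain ⟨hψs, n, b, hb⟩ := exists_integral_basis hφ hφs hψ
  have hCtower : ∀ c : K, algebraMap K L⸨X⸩ c = HahnSeries.C (algebraMap K L c) := fun c => by
    rw [HahnSeries.algebraMap_apply', PowerSeries.algebraMap_apply, HahnSeries.ofPowerSeries_C]
  let ψ' : E →ₐ[K] L⸨X⸩ :=
    { (ψ : E →+* L⸨X⸩) with
      commutes' := fun c => by
        show ψ (algebraMap K E c) = _
        rw [IsScalarTower.algebraMap_apply K L E, LocRes.map_algebraMap, hCtower, Algebra.algebraMap_self,
          RingHom.id_apply] }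
  have hψ' : ∀ z, ψ' z = ψ z := fun z => rfl
  set U := algebraMap F E u with hUdef
  let Lat : Submodule K E := (intSeries K L).comap (expLin ψ')
  have hLat : ∀ z, z ∈ Lat ↔ w z ≤ 1 := fun z => by
    show expLin ψ' z ∈ intSeries K L ↔ _
    rw [mem_intSeries, expLin_apply, hψ', v_psi hψ]
  obtain ⟨C, hC⟩ := Submodule.exists_isCompl Lat
  let π : E →ₗ[K] E := Lat.subtype ∘ₗ Lat.projectionOnto C hC
  have hπ : IsProjOn π Lat := ⟨fun x => SetLike.coe_mem _, fun x hx => by
    simp [π, Submodule.projectionOnto_apply_left hC ⟨x, hx⟩]⟩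
  let fV : E →ₗ[K] E := LinearMap.mulLeft K y
  let gV : E →ₗ[K] E := LinearMap.mulLeft K U
  have hU : Valued.v (ψ U) ≤ (1 : ℤᵐ⁰) := w_algebraMap_le (v := v) hψ hu
  -- above
  have hsideQ : tr (cornerOp π fV gV) = Algebra.trace K L (LocRes.resExp ψ y U) := by
    rw [tr_cornerOp_dense (j := expLin ψ') (LW := intSeries K L) ?_ rfl
      (fW := mulBy (ψ y)) (gW := mulBy (ψ U)) ?_ ?_ ?_ ?_ ?_ isProjOn_integral (fr_polarOp_mulBy _) hπ]
    · rw [tr_cornerOp_mulBy _ hU]; rfl
    · exact fun z z' h => ψ.toRingHom.injective h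
    · exact fun z => (map_mul ψ y z).symm
    · exact fun z => (map_mul ψ U z).symm
    · exact fun h => mul_left_comm _ _ _
    · intro h hh
      rw [mem_intSeries] at hh ⊢
      rw [mulBy_apply, map_mul]
      exact mul_le_one' hU hh
    · intro h
      obtain ⟨z, hz⟩ := hψs h
      refine ⟨z, ?_⟩
      rw [show h - expLin ψ' z = 0 from sub_eq_zero.2 hz.symm, map_zero]
      exact ⟨zero_mem _, zero_mem _⟩
  -- below
  let M : Fin n → Fin n → F := fun i l => b.repr (y * b l) i
  let jP : E →ₗ[K] (Fin n → K⸨X⸩) :=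
    LinearMap.pi fun i => expLin φ ∘ₗ ((b.coord i).restrictScalars K)
  let fP : (Fin n → K⸨X⸩) →ₗ[K] (Fin n → K⸨X⸩) :=
    LinearMap.pi fun i => ∑ l, mulBy (φ (M i l)) ∘ₗ LinearMap.proj l
  let gP : (Fin n → K⸨X⸩) →ₗ[K] (Fin n → K⸨X⸩) :=
    LinearMap.pi fun i => mulBy (φ u) ∘ₗ LinearMap.proj i
  have hjP : ∀ z i, jP z i = φ (b.repr z i) := fun z i => rfl
  have hfP : ∀ x i, fP x i = ∑ l, φ (M i l) * x l := fun x i => by simp [fP, mulBy_apply]
  have hgP : ∀ x i, gP x i = φ u * x i := fun x i => rfl
  obtain ⟨hfrP, htrP⟩ := tr_cornerOp_pi (k := K) fP (fun i => φ (M i i)) (fun _ => φ u)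
    (fun _ => (hφ.1 u).trans_le hu)
    (fun i => LinearMap.ext fun h => by
      simp only [LinearMap.comp_apply, LinearMap.proj_apply, hfP, mulBy_apply, LinearMap.coe_single]
      rw [Finset.sum_eq_single i (fun l _ hl => by simp [hl]) (by simp)]
      simp)
    (fun i l => by
      rw [show LinearMap.proj i ∘ₗ fP ∘ₗ LinearMap.single K (fun _ => K⸨X⸩) l = mulBy (φ (M i l)) from
        LinearMap.ext fun h => by
          simp only [LinearMap.comp_apply, LinearMap.proj_apply, hfP, mulBy_apply, LinearMap.coe_single]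
          rw [Finset.sum_eq_single l (fun m _ hm => by simp [hm]) (by simp)]
          simp]
      exact fr_polar_mul (N := (-(φ (M i l)).order).toNat) fun m hm =>
        HahnSeries.coeff_eq_zero_of_lt_order (by omega))
  have hsideP : tr (cornerOp π fV gV) = LocRes.resExp φ (Algebra.trace F E y) u := by
    rw [tr_cornerOp_dense (j := jP) (LW := intLattice K fun _ => K) ?_ ?_ (fW := fP) (gW := gP) ?_ ?_
      ?_ ?_ ?_ isProjOn_intProj hfrP hπ]
    · refine htrP.trans ?_
      simp only [Algebra.trace_self_apply]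
      rw [LocRes.resExp, ← map_sum, ← Finset.sum_mul, ← map_sum φ, Algebra.trace_eq_matrix_trace b]
      refine congrArg (LocRes.res K) (congrArg (· * _) (congrArg φ (Finset.sum_congr rfl fun i _ => ?_)))
      rw [Matrix.diag_apply, Algebra.leftMulMatrix_eq_repr_mul]
    · intro z z' h
      refine b.repr.injective (Finsupp.ext fun i => φ.toRingHom.injective ?_)
      exact congrFun h i
    · ext z
      rw [hLat, Submodule.mem_comap, mem_intLattice, hb]
      exact forall_congr' fun i => by rw [hjP, hφ.1]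
    · intro z
      funext i
      simp only [hfP, hjP, fV, LinearMap.mulLeft_apply, ← map_mul, ← map_sum]
      congr 1
      conv_rhs => rw [← b.sum_repr z]
      simp only [Finset.mul_sum, map_sum, Algebra.mul_smul_comm, map_smul, Finsupp.smul_apply,
        Finsupp.coe_finsetSum, Finset.sum_apply, smul_eq_mul, M]
      exact Finset.sum_congr rfl fun l _ => mul_comm _ _
    · intro z
      funext i
      simp only [hgP, hjP, gV, LinearMap.mulLeft_apply, ← map_mul]
      rw [show U * z = u • z from (Algebra.smul_def u z).symm, map_smul, Finsupp.smul_apply, smul_eq_mul]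
    · intro x
      funext i
      simp only [hfP, hgP, Finset.mul_sum]
      exact Finset.sum_congr rfl fun l _ => by ring
    · intro x hx
      rw [mem_intLattice] at hx ⊢
      exact fun i => by rw [hgP, map_mul]; exact mul_le_one' ((hφ.1 u).trans_le hu) (hx i)
    · intro x
      choose g hg using fun i => hφs (x i)
      refine ⟨∑ i, g i • b i, ?_⟩
      rw [show x - jP (∑ i, g i • b i) = 0 from funext fun i => by
        rw [Pi.sub_apply, hjP, b.repr_sum_self, hg, sub_self]; rfl, map_zero]
      exact ⟨zero_mem _, zero_mem _⟩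
  rw [← hsideP, hsideQ]

/-- `Tr Res_w (y dx) = Res_v (tr y dx)`. -/
theorem trace_res (y : E) (x : F) :
    Algebra.trace K L (LocRes.resExp ψ y (algebraMap F E x)) =
      LocRes.resExp φ (Algebra.trace F E y) x := by
  obtain ⟨t, ht⟩ := hφs (HahnSeries.single 1 1)
  obtain ⟨c, hc⟩ := hφs (LocRes.D K (φ x))
  have hvt : v t ≤ 1 := by
    rw [← hφ.1, ht, LaurentSeries.valuation_single_zpow, ← WithZero.exp_zero, WithZero.exp_le_exp]
    norm_num
  have hDt : LocRes.D K (φ t) = 1 := by
    ext i
    rw [ht, LocRes.D_coeff, HahnSeries.coeff_single, HahnSeries.coeff_one]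
    rcases eq_or_ne i 0 with rfl | hi
    · simp
    · rw [if_neg (by omega), if_neg hi, smul_zero]
  have key := trace_res_integral hφ hφs hψ (c • y) hvt
  have hψc := D_psi_algebraMap hφ hφs hψ ht hc
  simp only [LocRes.resExp, map_smul, smul_eq_mul, map_mul, hDt, _root_.mul_one] at key
  simp only [LocRes.resExp]
  rw [hψc, ← hc, mul_comm (φ _) (φ c), ← key, Algebra.smul_def, map_mul ψ]
  congr 2
  ring

end Groth.LocResTrace
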